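import Groth.Prelude.Def_W4c5qllcourbesmultMultCrv
import Mathlib

/-! Duality over `R[X]/(X^n)` relative to `R`: the top coefficient is a dualizing functional. -/

set_option autoImplicit false

universe u v

noncomputable section
namespace Groth.Agent.H25MultCrv

open Polynomial MultCrv

variable {R : Type u} [CommRing R] {n : ℕ}

lemma mk_eq_mk_iff (f g : R[X]) :
    (Ideal.Quotient.mk _ f : Rn R n) = Ideal.Quotient.mk _ g ↔ ∀ j < n, f.coeff j = g.coeff j := by
  rw [Ideal.Quotient.eq, Ideal.mem_span_singleton, X_pow_dvd_iff]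
  simp [sub_eq_zero]

lemma z_pow_n : (z R n) ^ n = 0 := by
  rw [z, ← map_pow, Ideal.Quotient.eq_zero_iff_mem]
  exact Ideal.subset_span rfl

lemma z_pow_eq_zero {m : ℕ} (h : n ≤ m) : (z R n) ^ m = 0 := by
  rw [← Nat.sub_add_cancel h, pow_add, z_pow_n, mul_zero]

lemma mk_smul (r : R) (p : R[X]) : (Ideal.Quotient.mk _ (r • p) : Rn R n) = r • Ideal.Quotient.mk _ p := rfl

lemma mk_eq_sum (p : R[X]) :
    (Ideal.Quotient.mk _ p : Rn R n) = ∑ i ∈ Finset.range n, p.coeff i • (z R n) ^ i := by
  have : (Ideal.Quotient.mk _ p : Rn R n) =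
      Ideal.Quotient.mk _ (∑ i ∈ Finset.range n, p.coeff i • (X : R[X]) ^ i) := by
    rw [mk_eq_mk_iff]
    intro j hj
    simp [finsetSum_coeff, coeff_X_pow, hj]
  rw [this, map_sum]
  simp [mk_smul, map_pow, z]

instance : Module.Finite R (Rn R n) := (monic_X_pow n).finite_quotient

/-- Coefficient of `z^j`, `j < n`. -/
def coef (j : ℕ) (hj : j < n) : Rn R n →ₗ[R] R where
  toFun x := (Quotient.out x).coeff j
  map_add' x y := by
    have h : ∀ z : Rn R n, (Ideal.Quotient.mk _ (Quotient.out z) : Rn R n) = z := fun z => Quotient.out_eq z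
    rw [← coeff_add]
    exact (mk_eq_mk_iff _ _).1 (by rw [map_add, h, h, h]) j hj
  map_smul' r x := by
    have h : ∀ z : Rn R n, (Ideal.Quotient.mk _ (Quotient.out z) : Rn R n) = z := fun z => Quotient.out_eq z
    rw [RingHom.id_apply, ← coeff_smul]
    exact (mk_eq_mk_iff _ _).1 (by rw [mk_smul, h, h]) j hj

lemma coef_mk (j : ℕ) (hj : j < n) (p : R[X]) : coef j hj (Ideal.Quotient.mk _ p : Rn R n) = p.coeff j :=
  (mk_eq_mk_iff _ _).1 (Quotient.out_eq _) j hj

variable [h0 : NeZero n]

/-- The top coefficient. -/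
def top : Rn R n →ₗ[R] R := coef (n - 1) (Nat.sub_lt (NeZero.pos n) Nat.one_pos)

lemma top_z_pow (i : ℕ) : top ((z R n) ^ i) = if i = n - 1 then 1 else 0 := by
  rw [z, ← map_pow, top, coef_mk, coeff_X_pow]
  exact if_congr eq_comm rfl rfl

lemma top_z_pow_mul (i : ℕ) (hi : i < n) (p : R[X]) :
    top ((z R n) ^ i * Ideal.Quotient.mk _ p) = p.coeff (n - 1 - i) := by
  rw [z, ← map_pow, ← map_mul, top, coef_mk, coeff_X_pow_mul']
  rw [if_pos (by omega)]

/-- Nondegeneracy of the top coefficient. -/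
lemma ext_top {x y : Rn R n} (h : ∀ a, top (a * x) = top (a * y)) : x = y := by
  obtain ⟨p, rfl⟩ := Ideal.Quotient.mk_surjective x
  obtain ⟨q, rfl⟩ := Ideal.Quotient.mk_surjective y
  rw [mk_eq_mk_iff]
  intro j hj
  have := h ((z R n) ^ (n - 1 - j))
  rw [top_z_pow_mul _ (by omega), top_z_pow_mul _ (by omega)] at this
  rwa [show n - 1 - (n - 1 - j) = j by omega] at this

variable {M : Type*} [AddCommGroup M] [Module (Rn R n) M] [Module R M] [IsScalarTower R (Rn R n) M]

/-- Candidate inverse of post-composition with `top`. -/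
def invFun (g : M →ₗ[R] R) (m : M) : Rn R n :=
  ∑ j ∈ Finset.range n, g ((z R n) ^ j • m) • (z R n) ^ (n - 1 - j)

lemma top_mul_invFun (g : M →ₗ[R] R) (m : M) (a : Rn R n) : top (a * invFun g m) = g (a • m) := by
  obtain ⟨p, rfl⟩ := Ideal.Quotient.mk_surjective a
  rw [mk_eq_sum p, invFun, Finset.sum_mul_sum, map_sum, Finset.sum_smul, map_sum]
  refine Finset.sum_congr rfl fun i hi => ?_
  have hi' := Finset.mem_range.1 hi
  rw [map_sum, Finset.sum_eq_single i, smul_mul_smul_comm, map_smul, ← pow_add, top_z_pow,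
    if_pos (by omega), smul_eq_mul, mul_one, smul_assoc, g.map_smul, smul_eq_mul]
  · intro j hj hji
    have hj' := Finset.mem_range.1 hj
    rw [smul_mul_smul_comm, map_smul, ← pow_add, top_z_pow, if_neg (by omega), smul_zero]
  · exact fun h => absurd hi h

/-- `Hom_{R[X]/(X^n)}(M, R[X]/(X^n)) ≃ Hom_R(M, R)`. -/
def dualEquiv : Module.Dual (Rn R n) M ≃+ Module.Dual R M where
  toFun f := top.comp (f.restrictScalars R)
  invFun g :=
    { toFun := invFun g
      map_add' := fun x y => ext_top fun a => by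
        rw [top_mul_invFun, mul_add, map_add, top_mul_invFun, top_mul_invFun, smul_add, map_add]
      map_smul' := fun c x => ext_top fun a => by
        rw [top_mul_invFun, RingHom.id_apply, smul_eq_mul, ← mul_assoc, top_mul_invFun, smul_smul] }
  left_inv f := by
    ext m
    refine ext_top fun a => ?_
    simp [top_mul_invFun]
  right_inv g := by
    ext m
    have := top_mul_invFun g m (1 : Rn R n)
    simpa using this
  map_add' f g := by ext m; simp

lemma dualEquiv_apply (f : Module.Dual (Rn R n) M) (m : M) : dualEquiv f m = top (f m) := rfl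

lemma dualEquiv_smul (r : R) (f : Module.Dual (Rn R n) M) : dualEquiv (r • f) = r • dualEquiv f := by
  ext m; simp [dualEquiv_apply]

end Groth.Agent.H25MultCrv
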