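import Groth.Agent.H25MultCrv.Module

/-! `Ext` over `R[X]/(X^n)` of finite modules. -/

set_option autoImplicit false

universe u

noncomputable section
namespace Groth.Agent.H25MultCrv

open Polynomial MultCrv CategoryTheory Limits

variable {R : Type u} [CommRing R] {n : ℕ}

section Pres

variable {M : Type u} [AddCommGroup M] [Module (Rn R n) M] {r : ℕ} (π : (Fin r → Rn R n) →ₗ[Rn R n] M)

/-- The presentation sequence attached to `π`. -/
abbrev presSeq : ShortComplex (ModuleCat.{u} (Rn R n)) :=
  ShortComplex.mk (ModuleCat.ofHom (LinearMap.ker π).subtype) (ModuleCat.ofHom π) (by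
    ext x; exact x.2)

lemma presSeq_shortExact (hπ : Function.Surjective π) : (presSeq π).ShortExact where
  exact := by
    rw [ShortComplex.moduleCat_exact_iff_range_eq_ker]
    simp
  mono_f := (ModuleCat.mono_iff_injective _).2 (Submodule.injective_subtype _)
  epi_g := (ModuleCat.epi_iff_surjective _).2 hπ

lemma exists_ext_rep (hπ : Function.Surjective π) {Y : ModuleCat.{u} (Rn R n)} {j : ℕ}
    (x : Abelian.Ext (ModuleCat.of (Rn R n) M) Y (j + 1)) :
    ∃ x₁ : Abelian.Ext (ModuleCat.of (Rn R n) (LinearMap.ker π)) Y j,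
      (presSeq_shortExact π hπ).extClass.comp x₁ (add_comm 1 j) = x :=
  Abelian.Ext.contravariant_sequence_exact₃ (presSeq_shortExact π hπ) Y x
    (Abelian.Ext.eq_zero_of_projective _) _

end Pres

variable [IsDomain R] [IsPrincipalIdealRing R] [NeZero n]

lemma isTorsionFree_submodule_free {ι : Type*} (K : Submodule (Rn R n) (ι → Rn R n)) :
    Module.IsTorsionFree R K := by
  rw [Module.isTorsionFree_iff_smul_eq_zero]
  intro a x h
  by_contra hc
  rw [not_or] at hc
  refine hc.2 (Subtype.ext (funext fun i => (coefEquiv (R := R)).injective ?_))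
  have h' := congrArg (fun y : K => coefEquiv (R := R) ((y : ι → Rn R n) i)) h
  simp at h'
  simpa [hc.1] using h'

variable {M : Type u} [AddCommGroup M] [Module (Rn R n) M] [Module R M] [IsScalarTower R (Rn R n) M]
  [Module.Finite (Rn R n) M]

lemma dualMap_surjective_of_shortExact [Module.IsTorsionFree R M] {A B : Type*} [AddCommGroup A] [Module (Rn R n) A]
    [Module R A] [IsScalarTower R (Rn R n) A] [AddCommGroup B] [Module (Rn R n) B] [Module R B]
    [IsScalarTower R (Rn R n) B] (f : A →ₗ[Rn R n] B) (g : B →ₗ[Rn R n] M) (hf : Function.Injective f)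
    (hg : Function.Surjective g) (hfg : LinearMap.range f = LinearMap.ker g) : Function.Surjective f.dualMap := by
  have := free_base (R := R) (n := n) (M := M)
  obtain ⟨r, hr⟩ := exists_retraction (f.restrictScalars R) (g.restrictScalars R) hf hg (by
    ext x
    have := SetLike.ext_iff.1 hfg x
    simpa using this)
  exact dualMap_surjective_of_retraction f r hr

lemma ext_self_one_eq_zero [Module.IsTorsionFree R M]
    (x : Abelian.Ext (ModuleCat.of (Rn R n) M) (ModuleCat.of (Rn R n) (Rn R n)) 1) : x = 0 := by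
  obtain ⟨r, π, hπ⟩ := Module.Finite.exists_fin' (Rn R n) M
  obtain ⟨x₁, rfl⟩ := exists_ext_rep π hπ x
  obtain ⟨φ, rfl⟩ := (Abelian.Ext.mk₀_bijective _ _).2 x₁
  obtain ⟨ψ, hψ⟩ := dualMap_surjective_of_shortExact (R := R) (LinearMap.ker π).subtype π
    (Submodule.injective_subtype _) hπ (Submodule.range_subtype _) φ.hom
  have : φ = (presSeq π).f ≫ ModuleCat.ofHom ψ := ModuleCat.hom_ext hψ.symm
  rw [this, ← Abelian.Ext.mk₀_comp_mk₀]
  exact (presSeq_shortExact π hπ).extClass_comp_assoc _

lemma ext_self_eq_zero : ∀ (j : ℕ) (M : Type u) [AddCommGroup M] [Module (Rn R n) M] [Module R M]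
    [IsScalarTower R (Rn R n) M] [Module.Finite (Rn R n) M] [Module.IsTorsionFree R M]
    (x : Abelian.Ext (ModuleCat.of (Rn R n) M) (ModuleCat.of (Rn R n) (Rn R n)) (j + 1)), x = 0
  | 0, M, _, _, _, _, _, _, x => ext_self_one_eq_zero (R := R) x
  | j + 1, M, _, _, _, _, _, _, x => by
    obtain ⟨r, π, hπ⟩ := Module.Finite.exists_fin' (Rn R n) M
    obtain ⟨x₁, rfl⟩ := exists_ext_rep π hπ x
    have := isTorsionFree_submodule_free (R := R) (LinearMap.ker π)
    rw [ext_self_eq_zero j (LinearMap.ker π) x₁, Abelian.Ext.comp_zero]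

lemma ext_self_eq_zero_two {M : Type u} [AddCommGroup M] [Module (Rn R n) M] [Module.Finite (Rn R n) M] (j : ℕ)
    (x : Abelian.Ext (ModuleCat.of (Rn R n) M) (ModuleCat.of (Rn R n) (Rn R n)) (j + 2)) : x = 0 := by
  obtain ⟨r, π, hπ⟩ := Module.Finite.exists_fin' (Rn R n) M
  obtain ⟨x₁, rfl⟩ := exists_ext_rep π hπ x
  have := isTorsionFree_submodule_free (R := R) (LinearMap.ker π)
  rw [ext_self_eq_zero j (LinearMap.ker π) x₁, Abelian.Ext.comp_zero]

lemma isTorsionFree_of_ext_self_one
    (h : Subsingleton (Abelian.Ext (ModuleCat.of (Rn R n) M) (ModuleCat.of (Rn R n) (Rn R n)) 1)) :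
    Module.IsTorsionFree R M := by
  obtain ⟨r, π, hπ⟩ := Module.Finite.exists_fin' (Rn R n) M
  have hext : Function.Surjective (LinearMap.ker π).subtype.dualMap := fun φ => by
    obtain ⟨x₂, hx₂⟩ := Abelian.Ext.contravariant_sequence_exact₁ (presSeq_shortExact π hπ) (ModuleCat.of _ (Rn R n))
      (Abelian.Ext.mk₀ (X := (presSeq π).X₁) (ModuleCat.ofHom φ)) (rfl : 1 + 0 = 1) (Subsingleton.elim _ _)
    obtain ⟨ψ, rfl⟩ := (Abelian.Ext.mk₀_bijective _ _).2 x₂
    rw [Abelian.Ext.mk₀_comp_mk₀] at hx₂
    exact ⟨ψ.hom, congrArg ModuleCat.Hom.hom ((Abelian.Ext.mk₀_bijective _ _).1 hx₂)⟩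
  have := isTorsionFree_submodule_free (R := R) (LinearMap.ker π)
  have := free_base (R := R) (n := n) (M := LinearMap.ker π)
  have := finite_base (R := R) (n := n) (M := LinearMap.ker π)
  let b := Module.Free.chooseBasis R (LinearMap.ker π)
  choose ψ hψ using fun i => hext (dualEquiv.symm (b.coord i))
  let rr : (Fin r → Rn R n) →ₗ[R] LinearMap.ker π := ∑ i, (dualEquiv (ψ i)).smulRight (b i)
  have hrr : ∀ k : LinearMap.ker π, rr k = k := fun k => by
    have hc : ∀ i, dualEquiv (ψ i) (k : Fin r → Rn R n) = b.coord i k := fun i => by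
      rw [← AddEquiv.apply_symm_apply (dualEquiv (R := R) (n := n) (M := LinearMap.ker π)) (b.coord i), ← hψ i]
      rfl
    simp only [rr, LinearMap.coe_sum, Finset.sum_apply, LinearMap.smulRight_apply, hc, Module.Basis.coord_apply]
    exact b.sum_repr k
  rw [Module.isTorsionFree_iff_smul_eq_zero]
  intro a m ham
  by_contra hc
  rw [not_or] at hc
  obtain ⟨p, rfl⟩ := hπ m
  set p' := p - (rr p : Fin r → Rn R n)
  have hπp' : π p' = π p := by simp [p']
  have hk : a • p' ∈ LinearMap.ker π := by
    rw [LinearMap.mem_ker, LinearMap.map_smul_of_tower, hπp', ham]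
  have h0 : a • p' = 0 := by
    have h1 := hrr ⟨a • p', hk⟩
    simp only at h1
    rw [map_smul, show rr p' = 0 by simp only [p', map_sub, hrr, sub_self], smul_zero] at h1
    exact congrArg Subtype.val h1.symm
  refine hc.2 ?_
  rw [← hπp', show p' = 0 from (smul_eq_zero.1 h0).resolve_left hc.1, map_zero]

lemma smul_eq_zero_of_factors {A : Type u} [CommRing A] {M P N : ModuleCat.{u} A} [Projective P] (c : A)
    (ψ : M ⟶ P) (φ : P ⟶ M) (h : ψ ≫ φ = c • 𝟙 M) {j : ℕ} (x : Abelian.Ext M N (j + 1)) : c • x = 0 := by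
  have : c • x = (Abelian.Ext.mk₀ (c • 𝟙 M)).comp x (zero_add _) := by
    rw [Abelian.Ext.mk₀_smul, Abelian.Ext.smul_comp, Abelian.Ext.mk₀_id_comp]
  rw [this, ← h, ← Abelian.Ext.mk₀_comp_mk₀_assoc, Abelian.Ext.eq_zero_of_projective
    ((Abelian.Ext.mk₀ φ).comp x (zero_add _)), Abelian.Ext.comp_zero]

lemma smul_ext_eq_zero [Module.IsTorsionFree R M] (N : ModuleCat.{u} (Rn R n)) {j : ℕ}
    (x : Abelian.Ext (ModuleCat.of (Rn R n) M) N (j + 1)) : (z R n ^ (n - 1)) • x = 0 := by
  have := finite_base (R := R) (n := n) (M := M)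
  let Z : Submodule R M := (LinearMap.range (z R n • (LinearMap.id : M →ₗ[Rn R n] M))).restrictScalars R
  let Q := (M ⧸ Z) ⧸ Submodule.torsion R (M ⧸ Z)
  let p : M →ₗ[R] Q := (Submodule.mkQ _).comp (Submodule.mkQ Z)
  have hp : Function.Surjective p := (Submodule.mkQ_surjective _).comp (Submodule.mkQ_surjective _)
  let b := Module.Free.chooseBasis R Q
  choose m hm using fun i => hp (b i)
  let c : Rn R n := z R n ^ (n - 1)
  have hcz : ∀ y : M, c • (z R n • y) = 0 := fun y => by
    simp only [c]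
    rw [smul_smul, ← pow_succ, Nat.sub_add_cancel (NeZero.one_le), z_pow_n]
    exact zero_smul (Rn R n) y
  let coord : M →ₗ[R] (Module.Free.ChooseBasisIndex R Q → R) := (b.equivFun.toLinearMap).comp p
  have hzero : ∀ y : M, coord (z R n • y) = 0 := fun y => by
    have : p (z R n • y) = 0 := by
      simp only [p, LinearMap.comp_apply, Submodule.mkQ_apply]
      rw [(Submodule.Quotient.mk_eq_zero Z (x := z R n • y)).2 ⟨y, rfl⟩]
      rfl
    simp [coord, this]
  let ψ : M →ₗ[Rn R n] (Module.Free.ChooseBasisIndex R Q → Rn R n) :=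
    { toFun := fun y i => coord y i • c
      map_add' := fun x y => by ext i; simp [add_smul]
      map_smul' := fun a y => by
        funext i
        obtain ⟨q, rfl⟩ := Ideal.Quotient.mk_surjective a
        simp only [RingHom.id_apply, Pi.smul_apply, smul_eq_mul]
        induction q using Polynomial.induction_on' with
        | add f g hf hg => rw [map_add, add_smul, map_add, Pi.add_apply, add_smul, add_mul, hf, hg]
        | monomial k r =>
          have e : (Ideal.Quotient.mk _ (monomial k r) : Rn R n) = r • z R n ^ k := by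
            rw [z, ← map_pow, ← mk_smul, smul_eq_C_mul, C_mul_X_pow_eq_monomial]
          rw [e, smul_assoc, map_smul, Pi.smul_apply, smul_assoc, smul_mul_assoc]
          congr 1
          rcases k with _ | k
          · rw [pow_zero, one_smul, one_mul]
          · rw [pow_succ', mul_smul, hzero, Pi.zero_apply, zero_smul, mul_smul_comm]
            simp only [c]
            rw [← pow_succ', ← pow_add, z_pow_eq_zero (by omega), smul_zero] }
  let φ : (Module.Free.ChooseBasisIndex R Q → Rn R n) →ₗ[Rn R n] M := Fintype.linearCombination (Rn R n) m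
  have hfac : φ.comp ψ = c • LinearMap.id := by
    ext y
    simp only [LinearMap.comp_apply, LinearMap.smul_apply, LinearMap.id_apply]
    change Fintype.linearCombination (Rn R n) m (fun i => coord y i • c) = c • y
    rw [Fintype.linearCombination_apply]
    have hy : p (y - ∑ i, coord y i • m i) = 0 := by
      simp only [map_sub, map_sum, map_smul, hm, coord, LinearMap.comp_apply, LinearEquiv.coe_coe,
        Module.Basis.sum_equivFun, sub_self]
    have hq : Submodule.mkQ Z (y - ∑ i, coord y i • m i) ∈ Submodule.torsion R (M ⧸ Z) :=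
      (Submodule.Quotient.mk_eq_zero _).1 hy
    obtain ⟨a, ha⟩ := Submodule.mem_torsion_iff _ |>.1 hq
    have ha' : (a : R) • (y - ∑ i, coord y i • m i) ∈ Z := by
      rw [← Submodule.Quotient.mk_eq_zero Z]; exact ha
    obtain ⟨w, hw⟩ := ha'
    have h1 : (a : R) • (c • (y - ∑ i, coord y i • m i)) = 0 := by
      rw [← smul_comm, ← hw]; exact hcz w
    have h2 := (smul_eq_zero.1 h1).resolve_left (nonZeroDivisors.coe_ne_zero a)
    rw [smul_sub, sub_eq_zero] at h2
    rw [h2, Finset.smul_sum]
    exact Finset.sum_congr rfl fun i _ => by rw [smul_assoc, smul_comm]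
  exact smul_eq_zero_of_factors c (P := ModuleCat.of (Rn R n) (Module.Free.ChooseBasisIndex R Q → Rn R n))
    (ModuleCat.ofHom ψ) (ModuleCat.ofHom φ) (ModuleCat.hom_ext hfac) x

lemma smul_ext_eq_zero_two {M : Type u} [AddCommGroup M] [Module (Rn R n) M] [Module.Finite (Rn R n) M]
    (N : ModuleCat.{u} (Rn R n)) (j : ℕ)
    (x : Abelian.Ext (ModuleCat.of (Rn R n) M) N (j + 2)) : (z R n ^ (n - 1)) • x = 0 := by
  obtain ⟨r, π, hπ⟩ := Module.Finite.exists_fin' (Rn R n) M
  obtain ⟨x₁, rfl⟩ := exists_ext_rep π hπ x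
  have := isTorsionFree_submodule_free (R := R) (LinearMap.ker π)
  rw [← Abelian.Ext.comp_smul, smul_ext_eq_zero (R := R) (M := LinearMap.ker π) N x₁, Abelian.Ext.comp_zero]

end Groth.Agent.H25MultCrv
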