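import Groth.Agent.H25MultCrv.Module

/-! The two canonical filtrations over `R[X]/(X^n)`: ranks and freeness. -/

set_option autoImplicit false

universe u v

noncomputable section
namespace Groth.Agent.H25MultCrv

open Polynomial MultCrv

variable {R : Type u} [CommRing R] {n : ℕ} {M : Type v} [AddCommGroup M] [Module (Rn R n) M] [Module R M]
  [IsScalarTower R (Rn R n) M]

lemma mem_filt {i : ℕ} {x : M} : x ∈ filt R n M i ↔ ∃ y : M, z R n ^ i • y = x := by
  simp [filt, LinearMap.mem_range]

lemma mem_filt2 {i : ℕ} {x : M} : x ∈ filt2 R n M i ↔ z R n ^ i • x = 0 := by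
  simp [filt2, Submodule.mem_torsionBy_iff]

lemma filt_antitone {i j : ℕ} (h : i ≤ j) : filt R n M j ≤ filt R n M i := by
  intro x hx
  obtain ⟨y, rfl⟩ := mem_filt.1 hx
  exact mem_filt.2 ⟨z R n ^ (j - i) • y, by rw [smul_smul, ← pow_add, Nat.add_sub_cancel' h]⟩

/-- `A i = z^i M ∩ M^(1)`. -/
def capA (R : Type u) [CommRing R] (n : ℕ) (M : Type v) [AddCommGroup M] [Module (Rn R n) M] (i : ℕ) :
    Submodule (Rn R n) M := filt R n M i ⊓ filt2 R n M 1

/-- `G^(i+1) ≃ z^i M ∩ M^(1)` via multiplication by `z^i`. -/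
def g2Equiv (i : ℕ) : G2 R n M (i + 1) ≃ₗ[Rn R n] capA R n M i := by
  let f : ↥(filt2 R n M (i + 1)) →ₗ[Rn R n] capA R n M i :=
    LinearMap.codRestrict _ ((z R n ^ i • (LinearMap.id : M →ₗ[Rn R n] M)).domRestrict (filt2 R n M (i + 1)))
      (fun u => ⟨mem_filt.2 ⟨u.1, rfl⟩, mem_filt2.2 (by
        change z R n ^ 1 • (z R n ^ i • (u : M)) = 0
        rw [smul_smul, ← pow_add, add_comm]; exact mem_filt2.1 u.2)⟩)
  refine LinearEquiv.ofBijective (Submodule.liftQ _ f ?_) ⟨?_, ?_⟩
  · intro u hu
    rw [Submodule.mem_comap, mem_filt2] at hu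
    rw [LinearMap.mem_ker]
    simp only [Nat.add_sub_cancel, Submodule.coe_subtype] at hu
    exact Subtype.ext hu
  · rw [← LinearMap.ker_eq_bot, Submodule.ker_liftQ_eq_bot]
    intro u hu
    rw [LinearMap.mem_ker] at hu
    rw [Submodule.mem_comap, mem_filt2]
    have hu' : z R n ^ i • (u : M) = 0 := congrArg Subtype.val hu
    simpa using hu'
  · rintro ⟨x, hx1, hx2⟩
    obtain ⟨y, rfl⟩ := mem_filt.1 hx1
    refine ⟨Submodule.Quotient.mk ⟨y, mem_filt2.2 ?_⟩, Subtype.ext ?_⟩
    · have := mem_filt2.1 hx2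
      rwa [smul_smul, ← pow_add, add_comm] at this
    · rfl

lemma g2Equiv_mk (i : ℕ) (u : ↥(filt2 R n M (i + 1))) :
    ((g2Equiv i (Submodule.Quotient.mk u)) : M) = z R n ^ i • (u : M) := rfl

lemma g2Equiv_lamG2 (i : ℕ) (x : G2 R n M (i + 2)) :
    (g2Equiv i (lamG2 R n M i x) : M) = (g2Equiv (i + 1) x : M) := by
  obtain ⟨u, rfl⟩ := Submodule.Quotient.mk_surjective _ x
  change z R n ^ i • (z R n • (u : M)) = z R n ^ (i + 1) • (u : M)
  rw [smul_smul, ← pow_succ]

variable [IsDomain R]

lemma isTorsionFree_iff_filt2_one : Module.IsTorsionFree R M ↔ Module.IsTorsionFree R ↥(filt2 R n M 1) := by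
  constructor
  · intro h; infer_instance
  · intro h
    rw [Module.isTorsionFree_iff_smul_eq_zero] at h ⊢
    intro r x hx
    by_contra hc
    rw [not_or] at hc
    have key : ∀ j (x : M), z R n ^ j • x = 0 → r • x = 0 → x = 0 := by
      intro j
      induction j with
      | zero => intro x hx _; simpa using hx
      | succ j ih =>
        intro x hx hr
        refine ih x ?_ hr
        have := h r ⟨z R n ^ j • x, mem_filt2.2 (by rw [smul_smul, pow_one, ← pow_succ', hx])⟩
          (by ext; simp [smul_comm r, hr])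
        simpa [hc.1] using this
    exact hc.2 (key n x (by rw [z_pow_n]; exact zero_smul (Rn R n) x) hx)

variable [IsPrincipalIdealRing R] [Module.Finite (Rn R n) M]

instance finite_submodule (N : Submodule (Rn R n) M) : Module.Finite R N :=
  have := finite_base (R := R) (n := n) (M := M)
  Module.Finite.of_injective (N.subtype.restrictScalars R) N.injective_subtype

lemma free_filt2_one_iff : Module.IsTorsionFree R M ↔ Module.Free R ↥(filt2 R n M 1) := by
  rw [isTorsionFree_iff_filt2_one (n := n)]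
  exact ⟨fun _ => inferInstance, fun _ => inferInstance⟩

lemma free_G2 [Module.IsTorsionFree R M] (i : ℕ) : Module.Free R (G2 R n M (i + 1)) :=
  have : Module.IsTorsionFree R (capA R n M i) := inferInstance
  Module.Free.of_equiv ((g2Equiv i).restrictScalars R).symm

omit [IsPrincipalIdealRing R] in
lemma finrank_G2_succ (i : ℕ) [IsNoetherianRing R] :
    Module.finrank R (G2 R n M (i + 1)) = Module.finrank R (G1 R n M i) := by
  have := finite_base (R := R) (n := n) (M := M)
  have hfin : ∀ N : Submodule (Rn R n) M, Module.Finite R N := fun N =>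
    Module.Finite.of_injective (N.subtype.restrictScalars R) N.injective_subtype
  have := hfin
  rw [((g2Equiv i).restrictScalars R).finrank_eq]
  let B := (filt R n M i).restrictScalars R
  let μ : B →ₗ[R] M := ((z R n • (LinearMap.id : M →ₗ[Rn R n] M)).restrictScalars R).domRestrict B
  have hrange : LinearMap.range μ = (filt R n M (i + 1)).restrictScalars R := by
    ext x
    rw [LinearMap.mem_range, Submodule.restrictScalars_mem, mem_filt]
    constructor
    · rintro ⟨⟨y, hy⟩, rfl⟩
      obtain ⟨w, rfl⟩ := mem_filt.1 hy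
      exact ⟨w, by simp [μ, smul_smul, pow_succ']⟩
    · rintro ⟨w, rfl⟩
      exact ⟨⟨z R n ^ i • w, mem_filt.2 ⟨w, rfl⟩⟩, by simp [μ, smul_smul, pow_succ']⟩
  have hker : Module.finrank R (LinearMap.ker μ) = Module.finrank R (capA R n M i) :=
    LinearEquiv.finrank_eq
      { toFun := fun y => ⟨(y.1 : M), y.1.2, mem_filt2.2 (by rw [pow_one]; exact y.2)⟩
        map_add' := fun _ _ => rfl
        map_smul' := fun _ _ => rfl
        invFun := fun y => ⟨⟨y.1, y.2.1⟩, by
          rw [LinearMap.mem_ker]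
          have := mem_filt2.1 y.2.2
          simpa [μ] using this⟩ }
  have h1 := Submodule.finrank_quotient_add_finrank (LinearMap.ker μ)
  rw [μ.quotKerEquivRange.finrank_eq, hrange, hker] at h1
  let W : Submodule R B := (Submodule.comap (filt R n M i).subtype (filt R n M (i + 1))).restrictScalars R
  have h2 := Submodule.finrank_quotient_add_finrank W
  have e1 : Module.finrank R W = Module.finrank R ↥((filt R n M (i + 1)).restrictScalars R) :=
    LinearEquiv.finrank_eq
      ((Submodule.comapSubtypeEquivOfLe (filt_antitone (R := R) (n := n) (M := M) i.le_succ)).restrictScalars R)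
  have e2 : Module.finrank R (B ⧸ W) = Module.finrank R (G1 R n M i) :=
    (Submodule.Quotient.restrictScalarsEquiv R
      (Submodule.comap (filt R n M i).subtype (filt R n M (i + 1)))).finrank_eq
  rw [e1, e2] at h2
  omega

/-- `G1` is torsion-free. -/
def TF1 (R : Type u) [CommRing R] (n : ℕ) (M : Type v) [AddCommGroup M] [Module (Rn R n) M] [Module R M] (i : ℕ) : Prop :=
  ∀ r : R, ∀ x ∈ filt R n M i, r ≠ 0 → r • x ∈ filt R n M (i + 1) → x ∈ filt R n M (i + 1)

/-- `Gam2` is torsion-free. -/
def TF2 (R : Type u) [CommRing R] (n : ℕ) (M : Type v) [AddCommGroup M] [Module (Rn R n) M] [Module R M] (i : ℕ) : Prop :=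
  ∀ r : R, ∀ x ∈ capA R n M i, r ≠ 0 → r • x ∈ capA R n M (i + 1) → x ∈ capA R n M (i + 1)

omit [Module.Finite (Rn R n) M] in
lemma free_quot_iff [Module.Finite R M] (P : Submodule (Rn R n) M) :
    Module.Free R (M ⧸ P) ↔ ∀ (r : R) (x : M), r ≠ 0 → r • x ∈ P → x ∈ P := by
  constructor
  · intro _ r x hr hrx
    have h : r • (Submodule.Quotient.mk x : M ⧸ P) = 0 := by
      rw [← Submodule.Quotient.mk_smul, Submodule.Quotient.mk_eq_zero]; exact hrx
    exact (Submodule.Quotient.mk_eq_zero P).1 ((smul_eq_zero.1 h).resolve_left hr)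
  · intro h
    have : Module.IsTorsionFree R (M ⧸ P) := by
      rw [Module.isTorsionFree_iff_smul_eq_zero]
      intro r x hrx
      obtain ⟨y, rfl⟩ := Submodule.Quotient.mk_surjective P x
      rw [← Submodule.Quotient.mk_smul, Submodule.Quotient.mk_eq_zero] at hrx
      rw [Submodule.Quotient.mk_eq_zero]
      exact or_iff_not_imp_left.2 fun hr => h r y hr hrx
    have : Module.Finite R (M ⧸ P) :=
      Module.Finite.of_surjective (P.mkQ.restrictScalars R) P.mkQ_surjective
    infer_instance

lemma free_G1_iff_TF1 (i : ℕ) : Module.Free R (G1 R n M i) ↔ TF1 R n M i := by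
  refine (free_quot_iff (Submodule.comap (filt R n M i).subtype (filt R n M (i + 1)))).trans ⟨?_, ?_⟩
  · exact fun h r x hx hr hrx => h r ⟨x, hx⟩ hr hrx
  · exact fun h r x hr hrx => h r x.1 x.2 hr hrx

lemma free_Gam2_iff_TF2 (i : ℕ) : Module.Free R (Gam2 R n M i) ↔ TF2 R n M i := by
  have : Module.Finite R (G2 R n M (i + 1)) := Module.Finite.equiv ((g2Equiv i).restrictScalars R).symm
  have mem_range : ∀ x : G2 R n M (i + 1),
      x ∈ LinearMap.range (lamG2 R n M i) ↔ (g2Equiv i x : M) ∈ capA R n M (i + 1) := by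
    intro x
    constructor
    · rintro ⟨y, rfl⟩; rw [g2Equiv_lamG2]; exact (g2Equiv (i + 1) y).2
    · intro hx
      refine ⟨(g2Equiv (i + 1)).symm ⟨_, hx⟩, (g2Equiv i).injective (Subtype.ext ?_)⟩
      rw [g2Equiv_lamG2, LinearEquiv.apply_symm_apply]
  have hsm : ∀ (r : R) (y : G2 R n M (i + 1)), (g2Equiv i (r • y) : M) = r • (g2Equiv i y : M) := fun r y =>
    congrArg Subtype.val (((g2Equiv i).restrictScalars R).map_smul r y)
  refine (free_quot_iff (M := G2 R n M (i + 1)) (LinearMap.range (lamG2 R n M i))).trans ⟨?_, ?_⟩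
  · intro h r x hx hr hrx
    have hy : (g2Equiv i ((g2Equiv i).symm ⟨x, hx⟩) : M) = x := by rw [LinearEquiv.apply_symm_apply]
    have := h r ((g2Equiv i).symm ⟨x, hx⟩) hr ((mem_range _).2 (by rw [hsm, hy]; exact hrx))
    rwa [mem_range, hy] at this
  · intro h r y hr hrx
    rw [mem_range, hsm] at hrx
    exact (mem_range _).2 (h r _ (g2Equiv i y).2 hr hrx)

omit [IsDomain R] [IsPrincipalIdealRing R] [Module.Finite (Rn R n) M] in
lemma TF1_all_iff_TF2_all : (∀ i < n, TF1 R n M i) ↔ (∀ i < n, TF2 R n M i) := by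
  constructor
  · intro h i hi r x hx hr hrx
    exact ⟨h i hi r x hx.1 hr hrx.1, hx.2⟩
  · intro h
    have key : ∀ d i, i + d = n → TF1 R n M i := by
      intro d
      induction d with
      | zero =>
        intro i hi r x hx _ _
        obtain ⟨y, rfl⟩ := mem_filt.1 hx
        rw [show z R n ^ i • y = 0 by rw [z_pow_eq_zero (by omega)]; exact zero_smul (Rn R n) y]
        exact zero_mem _
      | succ d ih =>
        intro i hi r x hx hr hrx
        obtain ⟨y, rfl⟩ := mem_filt.1 hx
        have hz : z R n ^ (i + 1) • y ∈ filt R n M (i + 2) := by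
          refine ih (i + 1) (by omega) r _ (mem_filt.2 ⟨y, rfl⟩) hr ?_
          obtain ⟨w, hw⟩ := mem_filt.1 hrx
          exact mem_filt.2 ⟨w, by rw [pow_succ', mul_smul, hw, pow_succ' (z R n) i, mul_smul, smul_comm r (z R n)]⟩
        obtain ⟨w, hw⟩ := mem_filt.1 hz
        have hA : z R n ^ i • y - z R n ^ (i + 1) • w ∈ capA R n M i := by
          refine ⟨(filt R n M i).sub_mem (mem_filt.2 ⟨y, rfl⟩) (filt_antitone i.le_succ (mem_filt.2 ⟨w, rfl⟩)),
            mem_filt2.2 ?_⟩
          rw [pow_one, smul_sub, smul_smul, smul_smul, ← pow_succ', ← pow_succ', hw, sub_self]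
        have hA' : r • (z R n ^ i • y - z R n ^ (i + 1) • w) ∈ capA R n M (i + 1) := by
          refine ⟨?_, ((filt2 R n M 1).smul_of_tower_mem r hA.2)⟩
          rw [smul_sub]
          exact (filt R n M (i + 1)).sub_mem hrx
            ((filt R n M (i + 1)).smul_of_tower_mem r (mem_filt.2 ⟨w, rfl⟩))
        have := (h i (by omega) r _ hA hr hA').1
        have := (filt R n M (i + 1)).add_mem this (mem_filt.2 ⟨w, rfl⟩)
        rwa [sub_add_cancel] at this
    exact fun i hi => key (n - i) i (by omega)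

end Groth.Agent.H25MultCrv
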