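import Groth.Agent.H25MultCrv.Basic

/-! Finite modules over `R[X]/(X^n)`, `R` a PID: torsion-freeness over `R`, duals. -/

set_option autoImplicit false

universe u v w

noncomputable section
namespace Groth.Agent.H25MultCrv

open Polynomial MultCrv

variable {R : Type u} [CommRing R] {n : ℕ}

/-- The coefficients. -/
def coefEquiv : Rn R n ≃ₗ[R] (Fin n → R) :=
  { LinearMap.pi fun j : Fin n => coef j.1 j.2 with
    invFun := fun c => ∑ j : Fin n, c j • (z R n) ^ j.1
    left_inv := fun x => by
      obtain ⟨p, rfl⟩ := Ideal.Quotient.mk_surjective x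
      simp only [AddHom.toFun_eq_coe, LinearMap.coe_toAddHom, LinearMap.pi_apply, coef_mk]
      rw [mk_eq_sum p, Fin.sum_univ_eq_sum_range fun i => p.coeff i • (z R n) ^ i]
    right_inv := fun c => by
      funext i
      have h : ∀ j : Fin n, coef i.1 i.2 ((z R n) ^ j.1) = if i = j then 1 else 0 := fun j => by
        rw [z, ← map_pow, coef_mk, coeff_X_pow]; exact if_congr Fin.ext_iff.symm rfl rfl
      simp only [AddHom.toFun_eq_coe, LinearMap.coe_toAddHom, map_sum, map_smul, Finset.sum_apply, Pi.smul_apply,
        LinearMap.pi_apply, h,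
        smul_eq_mul, mul_ite, mul_one, mul_zero, Finset.sum_ite_eq, Finset.mem_univ, if_true] }

instance : Module.Free R (Rn R n) := Module.Free.of_equiv (coefEquiv (R := R) (n := n)).symm

variable {M : Type v} [AddCommGroup M] [Module (Rn R n) M] [Module R M] [IsScalarTower R (Rn R n) M]

lemma finite_base [Module.Finite (Rn R n) M] : Module.Finite R M := Module.Finite.trans (Rn R n) M

lemma free_base [IsDomain R] [IsPrincipalIdealRing R] [Module.Finite (Rn R n) M] [Module.IsTorsionFree R M] :
    Module.Free R M :=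
  have := finite_base (R := R) (n := n) (M := M)
  inferInstance

lemma dualMap_surjective_of_retraction [NeZero n] {A B : Type*} [AddCommGroup A] [Module (Rn R n) A] [Module R A]
    [IsScalarTower R (Rn R n) A] [AddCommGroup B] [Module (Rn R n) B] [Module R B] [IsScalarTower R (Rn R n) B]
    (f : A →ₗ[Rn R n] B) (r : B →ₗ[R] A) (hr : ∀ a, r (f a) = a) : Function.Surjective f.dualMap := fun φ => by
  refine ⟨dualEquiv.symm ((dualEquiv φ).comp r), dualEquiv.injective ?_⟩
  ext a
  rw [dualEquiv_apply, LinearMap.dualMap_apply, ← dualEquiv_apply, AddEquiv.apply_symm_apply,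
    LinearMap.comp_apply, hr]

lemma exists_retraction {A B C : Type*} [AddCommGroup A] [Module R A] [AddCommGroup B] [Module R B]
    [AddCommGroup C] [Module R C] [Module.Projective R C] (f : A →ₗ[R] B) (g : B →ₗ[R] C)
    (hf : Function.Injective f) (hg : Function.Surjective g) (hfg : LinearMap.range f = LinearMap.ker g) :
    ∃ r : B →ₗ[R] A, ∀ a, r (f a) = a := by
  obtain ⟨s, hs⟩ := LinearMap.exists_rightInverse_of_surjective g (LinearMap.range_eq_top.2 hg)
  have hs' : ∀ c, g (s c) = c := fun c => LinearMap.congr_fun hs c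
  have hmem : ∀ b, (LinearMap.id - s.comp g : B →ₗ[R] B) b ∈ LinearMap.range f := fun b => by
    rw [hfg, LinearMap.mem_ker]; simp [hs']
  refine ⟨(LinearEquiv.ofInjective f hf).symm.toLinearMap.comp (LinearMap.codRestrict _ _ hmem), fun a => ?_⟩
  have : g (f a) = 0 := LinearMap.mem_ker.1 (hfg ▸ LinearMap.mem_range_self f a)
  apply (LinearEquiv.ofInjective f hf).injective
  simp [Subtype.ext_iff, this]

lemma isTorsionFree_of_isReflexive [IsDomain R] [NeZero n] [Module.IsReflexive (Rn R n) M] :
    Module.IsTorsionFree R M := by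
  rw [Module.isTorsionFree_iff_smul_eq_zero]
  intro r x h
  by_contra hc
  rw [not_or] at hc
  refine hc.2 ((Module.bijective_dual_eval (Rn R n) M).1 ?_)
  rw [map_zero]
  refine dualEquiv.injective ?_
  ext φ
  rw [map_zero, LinearMap.zero_apply, dualEquiv_apply, Module.Dual.eval_apply]
  have h1 : dualEquiv φ (r • x) = r * top (φ x) := by rw [map_smul, dualEquiv_apply, smul_eq_mul]
  rw [h, map_zero] at h1
  exact (mul_eq_zero.1 h1.symm).resolve_left hc.1

lemma isReflexive_of_isTorsionFree [IsDomain R] [IsPrincipalIdealRing R] [NeZero n] [Module.Finite (Rn R n) M]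
    [Module.IsTorsionFree R M] : Module.IsReflexive (Rn R n) M := by
  have := finite_base (R := R) (n := n) (M := M)
  have := free_base (R := R) (n := n) (M := M)
  have hR : Function.Bijective (Module.Dual.eval R M) := (Module.evalEquiv R M).bijective
  let D : Module.Dual (Rn R n) M ≃ₗ[R] Module.Dual R M := { dualEquiv with map_smul' := dualEquiv_smul }
  have key : ∀ x, dualEquiv (Module.Dual.eval (Rn R n) M x) = (Module.Dual.eval R M x).comp D.toLinearMap := by
    intro x; ext φ; simp [dualEquiv_apply, D]
  refine ⟨⟨fun x y h => hR.1 ?_, fun ψ => ?_⟩⟩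
  · have h' := congrArg dualEquiv h
    rw [key, key] at h'
    ext φ
    simpa using LinearMap.congr_fun h' (D.symm φ)
  · obtain ⟨x, hx⟩ := hR.2 ((dualEquiv ψ).comp D.symm.toLinearMap)
    refine ⟨x, dualEquiv.injective ?_⟩
    rw [key, hx]
    ext φ; simp

end Groth.Agent.H25MultCrv
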